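import Mathlib
import Cfsg.Agent.Cit.OmB3.Torus_m3
import Cfsg.Agent.WeakTI.PslTwo
import Cfsg.Agent.FastGrp
import Cfsg.Agent.Prune
set_option linter.all false
prune_inst 0x7f00000000000000000000000000000000000000000000000000000000000000000000000000000000000000000000000000000000000000000000000000000000000000000000000000000000000000003fffffffffffffffffffffffffffbeffbdffffffff
open scoped Cfsg.Agent.FastGrp

/-!
# Sylow 2-subgroups of the groups of Bender's list

`ben_syl` : the involutions of a Sylow 2-subgroup `S` are central in `S`, and `S` is elementary abelian, or has at least 8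
elements of square one, or has order at least 64 and exponent 4.
-/

set_option autoImplicit false
set_option linter.style.haveILetI false

namespace Cfsg.Agent.Cit.Nil.CVA2

open Cfsg Cfsg.Agent.LieRecognition Cfsg.Agent.LieRecognition.HermHeis Cfsg.Agent.LieRecognition.PSUThreeSylow
open Cfsg.Agent.LieRecognition.SzMatrix Cfsg.Agent.BenderType.Inv Cfsg.Agent.BenderType.Classify

/-- involutions are central, exponent 4 -/
def BenS (S : Type*) [Group S] : Prop :=
  (∀ x y : S, x * x = 1 → x * y = y * x) ∧ ∀ x : S, x * x * (x * x) = 1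

theorem BenS.congr {S T : Type*} [Group S] [Group T] (h : BenS S) (e : S ≃* T) : BenS T := by
  refine ⟨fun x y hx => ?_, fun x => ?_⟩
  · apply e.symm.injective
    rw [map_mul, map_mul]
    exact h.1 _ _ (by rw [← map_mul, hx, map_one])
  · apply e.symm.injective
    rw [map_mul, map_mul, map_one]
    exact h.2 _

theorem benS_heis {F : Type*} [Field F] [CharP F 2] {σ : F →+* F} [hσ : Fact (∀ x, σ (σ x) = x)] : BenS (Heis σ) := by
  refine ⟨fun x y hx => ?_, fun x => ?_⟩
  · rw [HermHeis.mul_self_eq_one_iff] at hx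
    rw [commute_iff, hx, map_zero, zero_mul, mul_zero]
  · rw [HermHeis.mul_self_eq_one_iff, mul_a, CharTwo.add_self_eq_zero]

theorem benS_unip {F : Type*} [Field F] {θ : F →+* F} {e : ℕ} (H : Good F θ e) : BenS H.unip := by
  refine ⟨?_, ?_⟩
  · rintro ⟨x, hx⟩ ⟨y, hy⟩ h1
    obtain ⟨a, b, rfl⟩ := (H.mem_unip_iff x).1 hx
    obtain ⟨c, d, rfl⟩ := (H.mem_unip_iff y).1 hy
    have h3 : H.u a b * H.u a b = 1 := congrArg Subtype.val h1
    rw [H.u_mul, ← H.u_zero] at h3
    have h5 := (H.u_inj h3).2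
    rw [H.add_self, zero_add, mul_eq_zero, map_eq_zero, or_self] at h5
    subst h5
    apply Subtype.ext
    show H.u 0 b * H.u c d = H.u c d * H.u 0 b
    rw [H.u_mul, H.u_mul]
    congr 1
    · ring
    · rw [map_zero]; ring
  · rintro ⟨x, hx⟩
    obtain ⟨a, b, rfl⟩ := (H.mem_unip_iff x).1 hx
    apply Subtype.ext
    show H.u a b * H.u a b * (H.u a b * H.u a b) = 1
    rw [H.u_mul, H.add_self, H.u_mul, H.add_self, zero_mul, add_zero, H.add_self, H.u_zero]

theorem benS_of_sz {G : Type*} [Group G] [Finite G] {F : Type*} [Field F] [Fintype F] {m : ℕ} (hm : 1 ≤ m)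
    (hF : Fintype.card F = 2 ^ (2 * m + 1)) (e : G ≃* ↥(Cfsg.Lie.Sz F (2 ^ (m + 1)))) (S : Sylow 2 G) :
    BenS (S : Subgroup G) := by
  have : Fact (Nat.Prime 2) := ⟨Nat.prime_two⟩
  have H := good hF
  have hcF : Nat.card F = 2 ^ (2 * m + 1) := by rw [Nat.card_eq_fintype_card, hF]
  have hodd : ¬ 2 ∣ H.unip.index := by
    have h1 := Subgroup.card_mul_index H.unip
    rw [(S1163.result hm hF).1, H.card_unip, hcF, mul_assoc] at h1
    have h2 := Nat.eq_of_mul_eq_mul_left (by positivity) h1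
    rw [h2]
    intro h
    rcases (Nat.Prime.dvd_mul Nat.prime_two).mp h with h | h
    · have h1 : 1 ≤ 2 ^ (2 * m + 1) := Nat.one_le_two_pow
      have h2 : 2 ∣ 2 ^ (2 * m + 1) := dvd_pow_self 2 (by omega)
      omega
    · have h2 : 2 ∣ (2 ^ (2 * m + 1)) ^ 2 := dvd_pow (dvd_pow_self 2 (by omega)) (by omega)
      omega
  have hpg : IsPGroup 2 H.unip := by
    apply IsPGroup.of_card (n := (2 * m + 1) * 2)
    rw [H.card_unip, hcF, ← pow_mul]
  have : Finite ↥(Cfsg.Lie.Sz F (2 ^ (m + 1))) := Finite.of_equiv G e.toEquiv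
  let T : Sylow 2 ↥(Cfsg.Lie.Sz F (2 ^ (m + 1))) := S.mapSurjective (f := e.toMonoidHom) e.surjective
  have h1 : BenS (T : Subgroup ↥(Cfsg.Lie.Sz F (2 ^ (m + 1)))) := (benS_unip H).congr ((hpg.toSylow hodd).equiv T)
  exact h1.congr (e.subgroupMap (S : Subgroup G)).symm

/-- **Sylow 2-subgroups of the groups of Bender's list** -/
theorem ben_syl {G : Type*} [Group G] [Finite G] (hG : Cfsg.Agent.BenderType.Classify.Concl G) (S : Sylow 2 G) :
    (∀ x ∈ S, x * x = 1 → ∀ y ∈ S, x * y = y * x) ∧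
    ((∀ x ∈ S, x * x = 1) ∨ 8 ≤ Nat.card {x : G // x ∈ S ∧ x * x = 1} ∨
      (64 ≤ Nat.card S ∧ ∀ x ∈ S, x * x * (x * x) = 1)) := by
  have : Fact (Nat.Prime 2) := ⟨Nat.prime_two⟩
  have fin : BenS (S : Subgroup G) → (∀ x ∈ S, x * x = 1 → ∀ y ∈ S, x * y = y * x) ∧
      ∀ x ∈ S, x * x * (x * x) = 1 := by
    intro h
    refine ⟨fun x hx hxx y hy => ?_, fun x hx => ?_⟩
    · exact congrArg Subtype.val (h.1 ⟨x, hx⟩ ⟨y, hy⟩ (Subtype.ext hxx))
    · exact congrArg Subtype.val (h.2 ⟨x, hx⟩)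
  rcases hG with ⟨F, i1, i2, ⟨k, -, hF⟩, ⟨e⟩⟩ | ⟨F, i1, i2, m, hm, hF, ⟨e⟩⟩ |
      ⟨F, i1, i2, k, hk, hF, ⟨e⟩⟩
  · have hchar : CharP F 2 := by
      obtain ⟨p, hp⟩ := CharP.exists F
      have hpp : p.Prime := (CharP.char_is_prime_or_zero F p).resolve_right
        (CharP.char_ne_zero_of_finite F p)
      obtain ⟨m, _, hm⟩ := FiniteField.card F p
      rw [hF] at hm
      have h1 : p ∣ 2 ^ k := by
        rw [hm]
        exact dvd_pow_self p m.ne_zero
      have h2 := (Nat.prime_dvd_prime_iff_eq hpp Nat.prime_two).mp (hpp.dvd_of_dvd_pow h1)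
      rwa [h2] at hp
    have hsq : ∀ x ∈ S, x * x = 1 := by
      intro x hx
      obtain ⟨j, hj⟩ := S.isPGroup' ⟨x, hx⟩
      exact WeakTI.PslTwo.mul_self e (k := j) (x := x) (congrArg Subtype.val hj)
    refine ⟨fun x hx _ y hy => ?_, Or.inl hsq⟩
    have h1 := hsq (x * y) ((S : Subgroup G).mul_mem hx hy)
    have h2 := hsq x hx
    have h3 := hsq y hy
    calc x * y = x * (x * y * (x * y)) * y := by rw [h1, mul_one]
      _ = (x * x) * (y * x) * (y * y) := by group
      _ = y * x := by rw [h2, h3, one_mul, mul_one]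
  · have h := fin (benS_of_sz hm hF e S)
    refine ⟨h.1, Or.inr (Or.inl ?_)⟩
    have h1 := (ty_sz_of_equiv hm hF e S).inv
    have h2 : Nat.card {x : (S : Subgroup G) // x * x = 1} = Nat.card {x : G // x ∈ S ∧ x * x = 1} := by
      refine Nat.card_congr
        { toFun := fun x => ⟨x.1.1, x.1.2, congrArg Subtype.val x.2⟩
          invFun := fun x => ⟨⟨x.1, x.2.1⟩, Subtype.ext x.2.2⟩
          left_inv := fun x => rfl
          right_inv := fun x => rfl }
    rw [← h2, h1]
    calc 8 = 2 ^ 3 := by norm_num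
      _ ≤ 2 ^ (2 * m + 1) := Nat.pow_le_pow_right (by norm_num) (by omega)
  · have hF' : Nat.card F = (2 ^ k) ^ 2 := by rw [Nat.card_eq_fintype_card, hF]
    obtain ⟨h2, σ, hσ, hs, -, h⟩ := exists_heis_equiv F (show 1 ≤ k by omega) hF'
    obtain ⟨f⟩ := h (S.mapSurjective (f := e.toMonoidHom) e.surjective)
    have h1 := fin ((benS_heis.congr f).congr (e.subgroupMap (S : Subgroup G)).symm)
    refine ⟨h1.1, Or.inr (Or.inr ⟨?_, h1.2⟩)⟩
    have h3 := (ty_psu_of_equiv (show 1 ≤ k by omega) hF e S).card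
    have h4 : Nat.card S = (2 ^ k) ^ 3 := h3
    rw [h4]
    calc 64 = (2 ^ 2) ^ 3 := by norm_num
      _ ≤ (2 ^ k) ^ 3 := Nat.pow_le_pow_left (Nat.pow_le_pow_right (by norm_num) hk) 3

end Cfsg.Agent.Cit.Nil.CVA2
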